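import Groth.Agent.RegLoc.Completion
import Mathlib.RingTheory.AdicCompletion.RingHom
import Mathlib.RingTheory.AdicCompletion.AsTensorProduct
import Mathlib.RingTheory.Flat.FaithfullyFlat.Algebra
import Mathlib.RingTheory.Flat.Stability
import Mathlib.RingTheory.Flat.TorsionFree
import Mathlib.RingTheory.Localization.AtPrime.Basic
import Mathlib.RingTheory.Ideal.AssociatedPrime.Finiteness
import Mathlib.RingTheory.LocalProperties.Submodule

/-!
# Testing modules on complete Noetherian local flat algebras
-/

set_option autoImplicit false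

namespace Groth.Agent.CompleteFlat

open TensorProduct IsLocalRing

universe u

variable {A : Type u} [CommRing A] (M : Type u) [AddCommGroup M] [Module A M]

theorem rTensor_injective_of_faithfullyFlat (B C : Type u) [CommRing B] [Algebra A B] [CommRing C]
    [Algebra A C] [Algebra B C] [IsScalarTower A B C] [Module.FaithfullyFlat B C] :
    Function.Injective (LinearMap.rTensor M (IsScalarTower.toAlgHom A B C).toLinearMap) := by
  let g : B ⊗[A] M →ₗ[A] C ⊗[A] M :=
    ((AlgebraTensorModule.cancelBaseChange A B B C M).toLinearMap ∘ₗ TensorProduct.mk B C (B ⊗[A] M) 1).restrictScalars A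
  have hg : g = LinearMap.rTensor M (IsScalarTower.toAlgHom A B C).toLinearMap := by
    ext b m
    simp [g, Algebra.smul_def]
  rw [← hg]
  exact (AlgebraTensorModule.cancelBaseChange A B B C M).injective.comp
    (Module.FaithfullyFlat.tensorProduct_mk_injective (A := B) (B := C) (B ⊗[A] M))

theorem exists_smul_eq_zero_of_localization (B : Type u) [CommRing B] [Algebra A B]
    (P : Ideal B) [P.IsPrime] (z : B ⊗[A] M)
    (h : LinearMap.rTensor M (IsScalarTower.toAlgHom A B (Localization.AtPrime P)).toLinearMap z = 0) :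
    ∃ s : B, s ∉ P ∧ s • z = 0 := by
  let C := Localization.AtPrime P
  haveI : IsLocalizedModule P.primeCompl (TensorProduct.mk B C (B ⊗[A] M) 1) :=
    (isLocalizedModule_iff_isBaseChange P.primeCompl C _).mpr (TensorProduct.isBaseChange B (B ⊗[A] M) C)
  let g : B ⊗[A] M →ₗ[A] C ⊗[A] M :=
    ((AlgebraTensorModule.cancelBaseChange A B B C M).toLinearMap ∘ₗ TensorProduct.mk B C (B ⊗[A] M) 1).restrictScalars A
  have hg : g = LinearMap.rTensor M (IsScalarTower.toAlgHom A B C).toLinearMap := by
    ext b m
    simp [g, Algebra.smul_def]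
  rw [← hg] at h
  have h0 : TensorProduct.mk B C (B ⊗[A] M) 1 z = 0 :=
    (AlgebraTensorModule.cancelBaseChange A B B C M).injective (h.trans (map_zero _).symm)
  obtain ⟨s, hs⟩ := (IsLocalizedModule.eq_zero_iff P.primeCompl (TensorProduct.mk B C (B ⊗[A] M) 1)).mp h0
  exact ⟨s, s.2, hs⟩

/-- The completion of the localization at a prime. -/
abbrev Comp (B : Type u) [CommRing B] (P : Ideal B) [P.IsPrime] : Type u :=
  AdicCompletion (maximalIdeal (Localization.AtPrime P)) (Localization.AtPrime P)

section Comp

variable (B : Type u) [CommRing B] [IsNoetherianRing B] [Algebra A B] (P : Ideal B) [P.IsPrime]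

instance comp_isNoetherian : IsNoetherianRing (Comp B P) :=
  Groth.Agent.RegLoc.Completion.isNoetherianRing_adicCompletion' _

theorem comp_isAdicComplete : IsAdicComplete (maximalIdeal (Comp B P)) (Comp B P) := inferInstance

theorem comp_faithfullyFlat : Module.FaithfullyFlat (Localization.AtPrime P) (Comp B P) :=
  Module.FaithfullyFlat.of_flat_of_isLocalHom

theorem comp_flat (h : Module.Flat A B) : Module.Flat A (Comp B P) :=
  have : Module.Flat A (Localization.AtPrime P) :=
    haveI : Module.Flat B (Localization.AtPrime P) := IsLocalization.flat _ P.primeCompl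
    Module.Flat.trans A B (Localization.AtPrime P)
  Module.Flat.trans A (Localization.AtPrime P) (Comp B P)

/-- `B → \hat B_P`. -/
noncomputable def toComp : B →ₐ[A] Comp B P :=
  (IsScalarTower.toAlgHom A (Localization.AtPrime P) (Comp B P)).comp
    (IsScalarTower.toAlgHom A B (Localization.AtPrime P))

theorem exists_smul_eq_zero_of_comp (z : B ⊗[A] M)
    (h : LinearMap.rTensor M (toComp B P).toLinearMap z = 0) : ∃ s : B, s ∉ P ∧ s • z = 0 := by
  refine exists_smul_eq_zero_of_localization M B P z ?_
  haveI := comp_faithfullyFlat B P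
  apply rTensor_injective_of_faithfullyFlat M (Localization.AtPrime P) (Comp B P)
  rw [map_zero, ← LinearMap.comp_apply, ← LinearMap.rTensor_comp]
  exact h

end Comp

/-- A module element killed in every complete Noetherian local flat algebra is zero. -/
theorem eq_zero_of_forall [IsNoetherianRing A] (m : M)
    (h : ∀ (B : Type u) [CommRing B] [Algebra A B] [IsNoetherianRing B] [IsLocalRing B],
      IsAdicComplete (maximalIdeal B) B → Module.Flat A B → (1 : B) ⊗ₜ[A] m = 0) : m = 0 := by
  by_contra hm
  obtain ⟨P, hP, hle⟩ := Ideal.exists_le_maximal ((⊥ : Submodule A M).colon {m})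
    (fun htop => hm (by simpa using Submodule.mem_colon_singleton.mp ((Ideal.eq_top_iff_one _).mp htop)))
  haveI := hP.isPrime
  have h0 := h (Comp A P) (comp_isAdicComplete A P) (comp_flat A P Module.Flat.self)
  obtain ⟨s, hs, hs'⟩ := exists_smul_eq_zero_of_comp M A P ((1 : A) ⊗ₜ[A] m) (by
    rw [LinearMap.rTensor_tmul, AlgHom.toLinearMap_apply, map_one, h0])
  refine hs (hle (Submodule.mem_colon_singleton.mpr ?_))
  rw [TensorProduct.smul_tmul', smul_eq_mul, mul_one] at hs'
  simpa using congrArg (TensorProduct.lid A M) hs'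

/-- Functoriality of the completion for a complete local target. -/
theorem exists_algHom_comp (p : Ideal A) [p.IsPrime] [IsNoetherianRing A]
    (C : Type u) [CommRing C] [Algebra A C] [IsLocalRing C]
    (hC : IsAdicComplete (maximalIdeal C) C) (hp : (maximalIdeal C).comap (algebraMap A C) = p) :
    Nonempty (Comp A p →ₐ[A] C) := by
  have hu : ∀ y : p.primeCompl, IsUnit (algebraMap A C y) := fun y => by
    by_contra hy
    exact y.2 (hp ▸ (IsLocalRing.mem_maximalIdeal _).mpr hy : (y : A) ∈ p)
  let g : Localization.AtPrime p →ₐ[A] C := IsLocalization.liftAlgHom (f := Algebra.ofId A C) hu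
  have hg : (maximalIdeal (Localization.AtPrime p)).map g ≤ maximalIdeal C := by
    rw [← Localization.AtPrime.map_eq_maximalIdeal, Ideal.map_le_iff_le_comap, Ideal.map_le_iff_le_comap]
    intro x hx
    show g (algebraMap A _ x) ∈ maximalIdeal C
    rw [AlgHom.commutes]
    rw [← hp] at hx
    exact hx
  have hpow : ∀ n, (maximalIdeal (Localization.AtPrime p)) ^ n ≤ ((maximalIdeal C) ^ n).comap g := fun n => by
    rw [← Ideal.map_le_iff_le_comap, Ideal.map_pow]
    exact Ideal.pow_right_mono hg n
  let f : (n : ℕ) → Comp A p →ₐ[A] C ⧸ (maximalIdeal C) ^ n := fun n =>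
    (Ideal.quotientMapₐ ((maximalIdeal C) ^ n) g (hpow n)).comp
      ((AdicCompletion.evalₐ (maximalIdeal (Localization.AtPrime p)) n).restrictScalars A)
  refine ⟨IsAdicComplete.liftAlgHom (maximalIdeal C) f ?_⟩
  intro a b hab
  ext x
  obtain ⟨y, rfl⟩ := AdicCompletion.mk_surjective (maximalIdeal (Localization.AtPrime p)) _ x
  simp only [f, AlgHom.coe_comp, Function.comp_apply, AlgHom.coe_restrictScalars', AdicCompletion.evalₐ_mk]
  simp only [Ideal.quotient_map_mkₐ, Ideal.Quotient.mkₐ_eq_mk, Ideal.Quotient.factorₐ_apply,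
    Ideal.Quotient.factor_mk]
  rw [Ideal.Quotient.eq, ← map_sub]
  refine hpow a ?_
  have := y.2 hab
  rw [SModEq.sub_mem, smul_eq_mul, Ideal.mul_top] at this
  rw [← neg_sub, neg_mem_iff]
  exact this

end Groth.Agent.CompleteFlat
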